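import Cfsg.Agent.H97.Ly.Table
import Cfsg.Agent.H23.Ly.Data.Rng

/-!
The two tables of the basic letters agree.
-/

set_option autoImplicit false
set_option maxRecDepth 100000
set_option Elab.async false

namespace H97.Ly.Inst

open H23.Ly.Data (rng rng_spec)

theorem agree0_0 : rng (fun c => Nat.beq (T10 0 c) (H23.Ly.Data.t0 c)) 0 2500 = true := by
  decide +kernel

theorem agree0_2500 : rng (fun c => Nat.beq (T10 0 c) (H23.Ly.Data.t0 c)) 2500 2500 = true := by
  decide +kernel

theorem agree0_5000 : rng (fun c => Nat.beq (T10 0 c) (H23.Ly.Data.t0 c)) 5000 2500 = true := by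
  decide +kernel

theorem agree0_7500 : rng (fun c => Nat.beq (T10 0 c) (H23.Ly.Data.t0 c)) 7500 2500 = true := by
  decide +kernel

theorem agree0_10000 : rng (fun c => Nat.beq (T10 0 c) (H23.Ly.Data.t0 c)) 10000 2500 = true := by
  decide +kernel

theorem agree0_12500 : rng (fun c => Nat.beq (T10 0 c) (H23.Ly.Data.t0 c)) 12500 2500 = true := by
  decide +kernel

theorem agree0_15000 : rng (fun c => Nat.beq (T10 0 c) (H23.Ly.Data.t0 c)) 15000 2500 = true := by
  decide +kernel

theorem agree0_17500 : rng (fun c => Nat.beq (T10 0 c) (H23.Ly.Data.t0 c)) 17500 2030 = true := by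
  decide +kernel

theorem agree0 {c : ℕ} (h : c < 19530) : T10 0 c = H23.Ly.Data.T 0 c := by
  rw [H23.Ly.Data.T0]
  refine Nat.eq_of_beq_eq_true ?_
  rcases Nat.lt_or_ge c 2500 with h0 | h0
  · exact rng_spec agree0_0 c (by omega) (by omega)
  rcases Nat.lt_or_ge c 5000 with h1 | h1
  · exact rng_spec agree0_2500 c (by omega) (by omega)
  rcases Nat.lt_or_ge c 7500 with h2 | h2
  · exact rng_spec agree0_5000 c (by omega) (by omega)
  rcases Nat.lt_or_ge c 10000 with h3 | h3
  · exact rng_spec agree0_7500 c (by omega) (by omega)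
  rcases Nat.lt_or_ge c 12500 with h4 | h4
  · exact rng_spec agree0_10000 c (by omega) (by omega)
  rcases Nat.lt_or_ge c 15000 with h5 | h5
  · exact rng_spec agree0_12500 c (by omega) (by omega)
  rcases Nat.lt_or_ge c 17500 with h6 | h6
  · exact rng_spec agree0_15000 c (by omega) (by omega)
  exact rng_spec agree0_17500 c (by omega) (by omega)

theorem agree1_0 : rng (fun c => Nat.beq (T10 1 c) (H23.Ly.Data.t1 c)) 0 2500 = true := by
  decide +kernel

theorem agree1_2500 : rng (fun c => Nat.beq (T10 1 c) (H23.Ly.Data.t1 c)) 2500 2500 = true := by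
  decide +kernel

theorem agree1_5000 : rng (fun c => Nat.beq (T10 1 c) (H23.Ly.Data.t1 c)) 5000 2500 = true := by
  decide +kernel

theorem agree1_7500 : rng (fun c => Nat.beq (T10 1 c) (H23.Ly.Data.t1 c)) 7500 2500 = true := by
  decide +kernel

theorem agree1_10000 : rng (fun c => Nat.beq (T10 1 c) (H23.Ly.Data.t1 c)) 10000 2500 = true := by
  decide +kernel

theorem agree1_12500 : rng (fun c => Nat.beq (T10 1 c) (H23.Ly.Data.t1 c)) 12500 2500 = true := by
  decide +kernel

theorem agree1_15000 : rng (fun c => Nat.beq (T10 1 c) (H23.Ly.Data.t1 c)) 15000 2500 = true := by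
  decide +kernel

theorem agree1_17500 : rng (fun c => Nat.beq (T10 1 c) (H23.Ly.Data.t1 c)) 17500 2030 = true := by
  decide +kernel

theorem agree1 {c : ℕ} (h : c < 19530) : T10 1 c = H23.Ly.Data.T 1 c := by
  rw [H23.Ly.Data.T1]
  refine Nat.eq_of_beq_eq_true ?_
  rcases Nat.lt_or_ge c 2500 with h0 | h0
  · exact rng_spec agree1_0 c (by omega) (by omega)
  rcases Nat.lt_or_ge c 5000 with h1 | h1
  · exact rng_spec agree1_2500 c (by omega) (by omega)
  rcases Nat.lt_or_ge c 7500 with h2 | h2
  · exact rng_spec agree1_5000 c (by omega) (by omega)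
  rcases Nat.lt_or_ge c 10000 with h3 | h3
  · exact rng_spec agree1_7500 c (by omega) (by omega)
  rcases Nat.lt_or_ge c 12500 with h4 | h4
  · exact rng_spec agree1_10000 c (by omega) (by omega)
  rcases Nat.lt_or_ge c 15000 with h5 | h5
  · exact rng_spec agree1_12500 c (by omega) (by omega)
  rcases Nat.lt_or_ge c 17500 with h6 | h6
  · exact rng_spec agree1_15000 c (by omega) (by omega)
  exact rng_spec agree1_17500 c (by omega) (by omega)

theorem agree2_0 : rng (fun c => Nat.beq (T10 2 c) (H23.Ly.Data.t2 c)) 0 2500 = true := by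
  decide +kernel

theorem agree2_2500 : rng (fun c => Nat.beq (T10 2 c) (H23.Ly.Data.t2 c)) 2500 2500 = true := by
  decide +kernel

theorem agree2_5000 : rng (fun c => Nat.beq (T10 2 c) (H23.Ly.Data.t2 c)) 5000 2500 = true := by
  decide +kernel

theorem agree2_7500 : rng (fun c => Nat.beq (T10 2 c) (H23.Ly.Data.t2 c)) 7500 2500 = true := by
  decide +kernel

theorem agree2_10000 : rng (fun c => Nat.beq (T10 2 c) (H23.Ly.Data.t2 c)) 10000 2500 = true := by
  decide +kernel

theorem agree2_12500 : rng (fun c => Nat.beq (T10 2 c) (H23.Ly.Data.t2 c)) 12500 2500 = true := by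
  decide +kernel

theorem agree2_15000 : rng (fun c => Nat.beq (T10 2 c) (H23.Ly.Data.t2 c)) 15000 2500 = true := by
  decide +kernel

theorem agree2_17500 : rng (fun c => Nat.beq (T10 2 c) (H23.Ly.Data.t2 c)) 17500 2030 = true := by
  decide +kernel

theorem agree2 {c : ℕ} (h : c < 19530) : T10 2 c = H23.Ly.Data.T 2 c := by
  rw [H23.Ly.Data.T2]
  refine Nat.eq_of_beq_eq_true ?_
  rcases Nat.lt_or_ge c 2500 with h0 | h0
  · exact rng_spec agree2_0 c (by omega) (by omega)
  rcases Nat.lt_or_ge c 5000 with h1 | h1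
  · exact rng_spec agree2_2500 c (by omega) (by omega)
  rcases Nat.lt_or_ge c 7500 with h2 | h2
  · exact rng_spec agree2_5000 c (by omega) (by omega)
  rcases Nat.lt_or_ge c 10000 with h3 | h3
  · exact rng_spec agree2_7500 c (by omega) (by omega)
  rcases Nat.lt_or_ge c 12500 with h4 | h4
  · exact rng_spec agree2_10000 c (by omega) (by omega)
  rcases Nat.lt_or_ge c 15000 with h5 | h5
  · exact rng_spec agree2_12500 c (by omega) (by omega)
  rcases Nat.lt_or_ge c 17500 with h6 | h6
  · exact rng_spec agree2_15000 c (by omega) (by omega)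
  exact rng_spec agree2_17500 c (by omega) (by omega)

theorem agree3_0 : rng (fun c => Nat.beq (T10 3 c) (H23.Ly.Data.t3 c)) 0 2500 = true := by
  decide +kernel

theorem agree3_2500 : rng (fun c => Nat.beq (T10 3 c) (H23.Ly.Data.t3 c)) 2500 2500 = true := by
  decide +kernel

theorem agree3_5000 : rng (fun c => Nat.beq (T10 3 c) (H23.Ly.Data.t3 c)) 5000 2500 = true := by
  decide +kernel

theorem agree3_7500 : rng (fun c => Nat.beq (T10 3 c) (H23.Ly.Data.t3 c)) 7500 2500 = true := by
  decide +kernel

theorem agree3_10000 : rng (fun c => Nat.beq (T10 3 c) (H23.Ly.Data.t3 c)) 10000 2500 = true := by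
  decide +kernel

theorem agree3_12500 : rng (fun c => Nat.beq (T10 3 c) (H23.Ly.Data.t3 c)) 12500 2500 = true := by
  decide +kernel

theorem agree3_15000 : rng (fun c => Nat.beq (T10 3 c) (H23.Ly.Data.t3 c)) 15000 2500 = true := by
  decide +kernel

theorem agree3_17500 : rng (fun c => Nat.beq (T10 3 c) (H23.Ly.Data.t3 c)) 17500 2030 = true := by
  decide +kernel

theorem agree3 {c : ℕ} (h : c < 19530) : T10 3 c = H23.Ly.Data.T 3 c := by
  rw [H23.Ly.Data.T3]
  refine Nat.eq_of_beq_eq_true ?_
  rcases Nat.lt_or_ge c 2500 with h0 | h0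
  · exact rng_spec agree3_0 c (by omega) (by omega)
  rcases Nat.lt_or_ge c 5000 with h1 | h1
  · exact rng_spec agree3_2500 c (by omega) (by omega)
  rcases Nat.lt_or_ge c 7500 with h2 | h2
  · exact rng_spec agree3_5000 c (by omega) (by omega)
  rcases Nat.lt_or_ge c 10000 with h3 | h3
  · exact rng_spec agree3_7500 c (by omega) (by omega)
  rcases Nat.lt_or_ge c 12500 with h4 | h4
  · exact rng_spec agree3_10000 c (by omega) (by omega)
  rcases Nat.lt_or_ge c 15000 with h5 | h5
  · exact rng_spec agree3_12500 c (by omega) (by omega)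
  rcases Nat.lt_or_ge c 17500 with h6 | h6
  · exact rng_spec agree3_15000 c (by omega) (by omega)
  exact rng_spec agree3_17500 c (by omega) (by omega)

theorem agree4_0 : rng (fun c => Nat.beq (T10 4 c) (H23.Ly.Data.t4 c)) 0 2500 = true := by
  decide +kernel

theorem agree4_2500 : rng (fun c => Nat.beq (T10 4 c) (H23.Ly.Data.t4 c)) 2500 2500 = true := by
  decide +kernel

theorem agree4_5000 : rng (fun c => Nat.beq (T10 4 c) (H23.Ly.Data.t4 c)) 5000 2500 = true := by
  decide +kernel

theorem agree4_7500 : rng (fun c => Nat.beq (T10 4 c) (H23.Ly.Data.t4 c)) 7500 2500 = true := by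
  decide +kernel

theorem agree4_10000 : rng (fun c => Nat.beq (T10 4 c) (H23.Ly.Data.t4 c)) 10000 2500 = true := by
  decide +kernel

theorem agree4_12500 : rng (fun c => Nat.beq (T10 4 c) (H23.Ly.Data.t4 c)) 12500 2500 = true := by
  decide +kernel

theorem agree4_15000 : rng (fun c => Nat.beq (T10 4 c) (H23.Ly.Data.t4 c)) 15000 2500 = true := by
  decide +kernel

theorem agree4_17500 : rng (fun c => Nat.beq (T10 4 c) (H23.Ly.Data.t4 c)) 17500 2030 = true := by
  decide +kernel

theorem agree4 {c : ℕ} (h : c < 19530) : T10 4 c = H23.Ly.Data.T 4 c := by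
  rw [H23.Ly.Data.T4]
  refine Nat.eq_of_beq_eq_true ?_
  rcases Nat.lt_or_ge c 2500 with h0 | h0
  · exact rng_spec agree4_0 c (by omega) (by omega)
  rcases Nat.lt_or_ge c 5000 with h1 | h1
  · exact rng_spec agree4_2500 c (by omega) (by omega)
  rcases Nat.lt_or_ge c 7500 with h2 | h2
  · exact rng_spec agree4_5000 c (by omega) (by omega)
  rcases Nat.lt_or_ge c 10000 with h3 | h3
  · exact rng_spec agree4_7500 c (by omega) (by omega)
  rcases Nat.lt_or_ge c 12500 with h4 | h4
  · exact rng_spec agree4_10000 c (by omega) (by omega)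
  rcases Nat.lt_or_ge c 15000 with h5 | h5
  · exact rng_spec agree4_12500 c (by omega) (by omega)
  rcases Nat.lt_or_ge c 17500 with h6 | h6
  · exact rng_spec agree4_15000 c (by omega) (by omega)
  exact rng_spec agree4_17500 c (by omega) (by omega)

end H97.Ly.Inst
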