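import Cfsg.Agent.H97.Ly.Table
import Cfsg.Agent.H23.Ly.Data.Rng

/-!
The two tables of the basic letters agree.
-/

set_option autoImplicit false
set_option maxRecDepth 100000
set_option Elab.async false

namespace H97.Ly.Inst

open H23.Ly.Data (rng rng_spec)

theorem agree5_0 : rng (fun c => Nat.beq (T10 5 c) (H23.Ly.Data.t5 c)) 0 2500 = true := by
  decide +kernel

theorem agree5_2500 : rng (fun c => Nat.beq (T10 5 c) (H23.Ly.Data.t5 c)) 2500 2500 = true := by
  decide +kernel

theorem agree5_5000 : rng (fun c => Nat.beq (T10 5 c) (H23.Ly.Data.t5 c)) 5000 2500 = true := by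
  decide +kernel

theorem agree5_7500 : rng (fun c => Nat.beq (T10 5 c) (H23.Ly.Data.t5 c)) 7500 2500 = true := by
  decide +kernel

theorem agree5_10000 : rng (fun c => Nat.beq (T10 5 c) (H23.Ly.Data.t5 c)) 10000 2500 = true := by
  decide +kernel

theorem agree5_12500 : rng (fun c => Nat.beq (T10 5 c) (H23.Ly.Data.t5 c)) 12500 2500 = true := by
  decide +kernel

theorem agree5_15000 : rng (fun c => Nat.beq (T10 5 c) (H23.Ly.Data.t5 c)) 15000 2500 = true := by
  decide +kernel

theorem agree5_17500 : rng (fun c => Nat.beq (T10 5 c) (H23.Ly.Data.t5 c)) 17500 2030 = true := by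
  decide +kernel

theorem agree5 {c : ℕ} (h : c < 19530) : T10 5 c = H23.Ly.Data.T 5 c := by
  rw [H23.Ly.Data.T5]
  refine Nat.eq_of_beq_eq_true ?_
  rcases Nat.lt_or_ge c 2500 with h0 | h0
  · exact rng_spec agree5_0 c (by omega) (by omega)
  rcases Nat.lt_or_ge c 5000 with h1 | h1
  · exact rng_spec agree5_2500 c (by omega) (by omega)
  rcases Nat.lt_or_ge c 7500 with h2 | h2
  · exact rng_spec agree5_5000 c (by omega) (by omega)
  rcases Nat.lt_or_ge c 10000 with h3 | h3
  · exact rng_spec agree5_7500 c (by omega) (by omega)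
  rcases Nat.lt_or_ge c 12500 with h4 | h4
  · exact rng_spec agree5_10000 c (by omega) (by omega)
  rcases Nat.lt_or_ge c 15000 with h5 | h5
  · exact rng_spec agree5_12500 c (by omega) (by omega)
  rcases Nat.lt_or_ge c 17500 with h6 | h6
  · exact rng_spec agree5_15000 c (by omega) (by omega)
  exact rng_spec agree5_17500 c (by omega) (by omega)

theorem agree6_0 : rng (fun c => Nat.beq (T10 6 c) (H23.Ly.Data.t6 c)) 0 2500 = true := by
  decide +kernel

theorem agree6_2500 : rng (fun c => Nat.beq (T10 6 c) (H23.Ly.Data.t6 c)) 2500 2500 = true := by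
  decide +kernel

theorem agree6_5000 : rng (fun c => Nat.beq (T10 6 c) (H23.Ly.Data.t6 c)) 5000 2500 = true := by
  decide +kernel

theorem agree6_7500 : rng (fun c => Nat.beq (T10 6 c) (H23.Ly.Data.t6 c)) 7500 2500 = true := by
  decide +kernel

theorem agree6_10000 : rng (fun c => Nat.beq (T10 6 c) (H23.Ly.Data.t6 c)) 10000 2500 = true := by
  decide +kernel

theorem agree6_12500 : rng (fun c => Nat.beq (T10 6 c) (H23.Ly.Data.t6 c)) 12500 2500 = true := by
  decide +kernel

theorem agree6_15000 : rng (fun c => Nat.beq (T10 6 c) (H23.Ly.Data.t6 c)) 15000 2500 = true := by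
  decide +kernel

theorem agree6_17500 : rng (fun c => Nat.beq (T10 6 c) (H23.Ly.Data.t6 c)) 17500 2030 = true := by
  decide +kernel

theorem agree6 {c : ℕ} (h : c < 19530) : T10 6 c = H23.Ly.Data.T 6 c := by
  rw [H23.Ly.Data.T6]
  refine Nat.eq_of_beq_eq_true ?_
  rcases Nat.lt_or_ge c 2500 with h0 | h0
  · exact rng_spec agree6_0 c (by omega) (by omega)
  rcases Nat.lt_or_ge c 5000 with h1 | h1
  · exact rng_spec agree6_2500 c (by omega) (by omega)
  rcases Nat.lt_or_ge c 7500 with h2 | h2
  · exact rng_spec agree6_5000 c (by omega) (by omega)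
  rcases Nat.lt_or_ge c 10000 with h3 | h3
  · exact rng_spec agree6_7500 c (by omega) (by omega)
  rcases Nat.lt_or_ge c 12500 with h4 | h4
  · exact rng_spec agree6_10000 c (by omega) (by omega)
  rcases Nat.lt_or_ge c 15000 with h5 | h5
  · exact rng_spec agree6_12500 c (by omega) (by omega)
  rcases Nat.lt_or_ge c 17500 with h6 | h6
  · exact rng_spec agree6_15000 c (by omega) (by omega)
  exact rng_spec agree6_17500 c (by omega) (by omega)

theorem agree7_0 : rng (fun c => Nat.beq (T10 7 c) (H23.Ly.Data.t7 c)) 0 2500 = true := by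
  decide +kernel

theorem agree7_2500 : rng (fun c => Nat.beq (T10 7 c) (H23.Ly.Data.t7 c)) 2500 2500 = true := by
  decide +kernel

theorem agree7_5000 : rng (fun c => Nat.beq (T10 7 c) (H23.Ly.Data.t7 c)) 5000 2500 = true := by
  decide +kernel

theorem agree7_7500 : rng (fun c => Nat.beq (T10 7 c) (H23.Ly.Data.t7 c)) 7500 2500 = true := by
  decide +kernel

theorem agree7_10000 : rng (fun c => Nat.beq (T10 7 c) (H23.Ly.Data.t7 c)) 10000 2500 = true := by
  decide +kernel

theorem agree7_12500 : rng (fun c => Nat.beq (T10 7 c) (H23.Ly.Data.t7 c)) 12500 2500 = true := by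
  decide +kernel

theorem agree7_15000 : rng (fun c => Nat.beq (T10 7 c) (H23.Ly.Data.t7 c)) 15000 2500 = true := by
  decide +kernel

theorem agree7_17500 : rng (fun c => Nat.beq (T10 7 c) (H23.Ly.Data.t7 c)) 17500 2030 = true := by
  decide +kernel

theorem agree7 {c : ℕ} (h : c < 19530) : T10 7 c = H23.Ly.Data.T 7 c := by
  rw [H23.Ly.Data.T7]
  refine Nat.eq_of_beq_eq_true ?_
  rcases Nat.lt_or_ge c 2500 with h0 | h0
  · exact rng_spec agree7_0 c (by omega) (by omega)
  rcases Nat.lt_or_ge c 5000 with h1 | h1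
  · exact rng_spec agree7_2500 c (by omega) (by omega)
  rcases Nat.lt_or_ge c 7500 with h2 | h2
  · exact rng_spec agree7_5000 c (by omega) (by omega)
  rcases Nat.lt_or_ge c 10000 with h3 | h3
  · exact rng_spec agree7_7500 c (by omega) (by omega)
  rcases Nat.lt_or_ge c 12500 with h4 | h4
  · exact rng_spec agree7_10000 c (by omega) (by omega)
  rcases Nat.lt_or_ge c 15000 with h5 | h5
  · exact rng_spec agree7_12500 c (by omega) (by omega)
  rcases Nat.lt_or_ge c 17500 with h6 | h6
  · exact rng_spec agree7_15000 c (by omega) (by omega)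
  exact rng_spec agree7_17500 c (by omega) (by omega)

theorem agree8_0 : rng (fun c => Nat.beq (T10 8 c) (H23.Ly.Data.t8 c)) 0 2500 = true := by
  decide +kernel

theorem agree8_2500 : rng (fun c => Nat.beq (T10 8 c) (H23.Ly.Data.t8 c)) 2500 2500 = true := by
  decide +kernel

theorem agree8_5000 : rng (fun c => Nat.beq (T10 8 c) (H23.Ly.Data.t8 c)) 5000 2500 = true := by
  decide +kernel

theorem agree8_7500 : rng (fun c => Nat.beq (T10 8 c) (H23.Ly.Data.t8 c)) 7500 2500 = true := by
  decide +kernel

theorem agree8_10000 : rng (fun c => Nat.beq (T10 8 c) (H23.Ly.Data.t8 c)) 10000 2500 = true := by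
  decide +kernel

theorem agree8_12500 : rng (fun c => Nat.beq (T10 8 c) (H23.Ly.Data.t8 c)) 12500 2500 = true := by
  decide +kernel

theorem agree8_15000 : rng (fun c => Nat.beq (T10 8 c) (H23.Ly.Data.t8 c)) 15000 2500 = true := by
  decide +kernel

theorem agree8_17500 : rng (fun c => Nat.beq (T10 8 c) (H23.Ly.Data.t8 c)) 17500 2030 = true := by
  decide +kernel

theorem agree8 {c : ℕ} (h : c < 19530) : T10 8 c = H23.Ly.Data.T 8 c := by
  rw [H23.Ly.Data.T8]
  refine Nat.eq_of_beq_eq_true ?_
  rcases Nat.lt_or_ge c 2500 with h0 | h0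
  · exact rng_spec agree8_0 c (by omega) (by omega)
  rcases Nat.lt_or_ge c 5000 with h1 | h1
  · exact rng_spec agree8_2500 c (by omega) (by omega)
  rcases Nat.lt_or_ge c 7500 with h2 | h2
  · exact rng_spec agree8_5000 c (by omega) (by omega)
  rcases Nat.lt_or_ge c 10000 with h3 | h3
  · exact rng_spec agree8_7500 c (by omega) (by omega)
  rcases Nat.lt_or_ge c 12500 with h4 | h4
  · exact rng_spec agree8_10000 c (by omega) (by omega)
  rcases Nat.lt_or_ge c 15000 with h5 | h5
  · exact rng_spec agree8_12500 c (by omega) (by omega)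
  rcases Nat.lt_or_ge c 17500 with h6 | h6
  · exact rng_spec agree8_15000 c (by omega) (by omega)
  exact rng_spec agree8_17500 c (by omega) (by omega)

theorem agree9_0 : rng (fun c => Nat.beq (T10 9 c) (H23.Ly.Data.t9 c)) 0 2500 = true := by
  decide +kernel

theorem agree9_2500 : rng (fun c => Nat.beq (T10 9 c) (H23.Ly.Data.t9 c)) 2500 2500 = true := by
  decide +kernel

theorem agree9_5000 : rng (fun c => Nat.beq (T10 9 c) (H23.Ly.Data.t9 c)) 5000 2500 = true := by
  decide +kernel

theorem agree9_7500 : rng (fun c => Nat.beq (T10 9 c) (H23.Ly.Data.t9 c)) 7500 2500 = true := by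
  decide +kernel

theorem agree9_10000 : rng (fun c => Nat.beq (T10 9 c) (H23.Ly.Data.t9 c)) 10000 2500 = true := by
  decide +kernel

theorem agree9_12500 : rng (fun c => Nat.beq (T10 9 c) (H23.Ly.Data.t9 c)) 12500 2500 = true := by
  decide +kernel

theorem agree9_15000 : rng (fun c => Nat.beq (T10 9 c) (H23.Ly.Data.t9 c)) 15000 2500 = true := by
  decide +kernel

theorem agree9_17500 : rng (fun c => Nat.beq (T10 9 c) (H23.Ly.Data.t9 c)) 17500 2030 = true := by
  decide +kernel

theorem agree9 {c : ℕ} (h : c < 19530) : T10 9 c = H23.Ly.Data.T 9 c := by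
  rw [H23.Ly.Data.T9]
  refine Nat.eq_of_beq_eq_true ?_
  rcases Nat.lt_or_ge c 2500 with h0 | h0
  · exact rng_spec agree9_0 c (by omega) (by omega)
  rcases Nat.lt_or_ge c 5000 with h1 | h1
  · exact rng_spec agree9_2500 c (by omega) (by omega)
  rcases Nat.lt_or_ge c 7500 with h2 | h2
  · exact rng_spec agree9_5000 c (by omega) (by omega)
  rcases Nat.lt_or_ge c 10000 with h3 | h3
  · exact rng_spec agree9_7500 c (by omega) (by omega)
  rcases Nat.lt_or_ge c 12500 with h4 | h4
  · exact rng_spec agree9_10000 c (by omega) (by omega)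
  rcases Nat.lt_or_ge c 15000 with h5 | h5
  · exact rng_spec agree9_12500 c (by omega) (by omega)
  rcases Nat.lt_or_ge c 17500 with h6 | h6
  · exact rng_spec agree9_15000 c (by omega) (by omega)
  exact rng_spec agree9_17500 c (by omega) (by omega)

end H97.Ly.Inst
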